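import Cfsg.Agent.Lib.Recog.SporBound.Sound
import Cfsg.Agent.Lib.Recog.SporBound.SpSixFull.Tree0
import Cfsg.Agent.Lib.Recog.SporBound.SpSixFull.Tree1

set_option autoImplicit false
set_option maxRecDepth 20000

/-! Generated closure certificate: S3342 model, <abcdef> over <a,b,c,d> (owner: helper24). -/

namespace CfsgLib.Recog.SporBound.SpSixFull
open CfsgLib.Recog.SporBound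

noncomputable def factTree : Q (ℕ) := (.node ft13 ft27 ft41 ft54)
noncomputable def nodeTree : Q (ℕ) := ct9
noncomputable def stepTree : Q (List ℕ) := (.node st15 st31 st47 st63)
noncomputable def finalTree : Q (List ℕ) := (.node (.node et7 et15 et23 et30) (.node et38 et46 et53 et60) (.node et68 et76 et83 et90) (.node et98 et106 et113 et120))

/-- The certificate. -/
noncomputable def cert : Cert where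
  n := 1120
  nd := 2642
  nf := 6435
  kl := [0, 1, 2, 3, 4, 5]
  facts := factTree
  cn := nodeTree
  steps := stepTree
  finals := finalTree
  rels := [[0, 0], [1, 1], [2, 2], [3, 3], [4, 4], [5, 5], [0, 1, 0, 1, 0, 1], [2, 3, 2, 3, 2, 3], [0, 1, 2, 0, 1, 2, 1, 0, 2, 1, 0, 2], [0, 1, 2, 0, 2, 1, 0, 2, 0, 2], [0, 2, 0, 2, 0, 2, 0, 2], [2, 3, 2, 0, 1, 2, 3, 2, 3, 2, 1, 0, 2, 3], [2, 3, 2, 0, 2, 3, 2, 3, 2, 0, 2, 3], [3, 0, 1, 3, 1, 0], [3, 0, 3, 0], [0, 2, 0, 2, 3, 2, 0, 2, 3, 4, 0, 1, 2, 0, 1, 2, 3, 2, 0, 1, 2, 3, 4, 3, 2, 0, 2, 3, 2, 0, 2, 0, 3, 2, 1, 0, 2, 3, 2, 1, 0, 2, 1, 0], [0, 2, 0, 2, 3, 2, 0, 2, 3, 4, 2, 0, 1, 2, 3, 2, 1, 0, 2, 3, 4, 3, 2, 0, 2, 3, 2, 0, 2, 0, 3, 2], [0, 2, 0, 2, 3, 2, 0, 2, 3, 4, 2, 3, 4, 3, 2, 0, 2, 3, 2,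 0, 2, 0, 2, 0, 1, 2, 3, 2, 1, 0, 2, 3], [0, 2, 0, 2, 3, 2, 0, 2, 3, 4, 0, 2, 0, 2, 3, 2, 0, 2, 3, 4, 3], [0, 1, 3, 1, 0, 3], [0, 1, 0, 2, 0, 2, 3, 2, 0, 2, 3, 4, 0, 1, 0, 2, 0, 2, 3, 2, 0, 2, 3, 4, 0, 1, 0, 2, 0, 2, 3, 2, 0, 2, 3, 4, 3], [5, 0, 5, 0], [5, 0, 1, 5, 1, 0], [5, 2, 0, 2, 5, 2, 0, 2], [5, 3, 2, 0, 2, 3, 5, 3, 2, 0, 2, 3], [5, 3, 5, 3], [5, 2, 0, 1, 2, 5, 2, 0, 1, 2, 5, 2, 0, 1, 2, 5, 2, 0, 1, 2], [5, 2, 0, 2, 2, 0, 1, 2, 5, 2, 0, 2, 2, 0, 1, 2, 5, 2, 0, 2, 2, 0, 1, 2], [5, 2, 0, 1, 2, 3, 2, 0, 1, 2, 3, 5, 2, 0, 1, 2, 3, 2, 0, 1, 2, 3, 5, 2, 0, 1, 2, 3, 2, 0, 1, 2, 3, 5, 2, 0, 1, 2, 3, 2, 0, 1, 2, 3, 5, 2, 0, 1, 2, 3, 2, 0, 1, 2, 3, 5, 2, 0, 1, 2, 3, 2, 0, 1, 2, 3], [5, 2, 0, 1, 2, 3, 2, 1, 0, 2, 3, 5, 2, 0, 1, 2, 3, 2, 1, 0,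 2, 3, 5, 2, 0, 1, 2, 3, 2, 1, 0, 2, 3, 5, 2, 0, 1, 2, 3, 2, 1, 0, 2, 3, 5, 2, 0, 1, 2, 3, 2, 1, 0, 2, 3, 5, 2, 0, 1, 2, 3, 2, 1, 0, 2, 3], [5, 2, 0, 1, 2, 5, 2, 1, 0, 2, 5, 2, 0, 1, 2, 5, 2, 1, 0, 2, 5, 2, 0, 1, 2, 5, 2, 1, 0, 2], [5, 2, 0, 1, 2, 3, 2, 0, 1, 2, 3, 5, 3, 2, 1, 0, 2, 3, 2, 1, 0, 2, 2, 0, 1, 2, 3, 2, 0, 1, 2, 3, 2, 0, 1, 2, 3, 2, 0, 1, 2, 3, 5, 3, 2, 1, 0, 2, 3, 2, 1, 0, 2, 3, 2, 1, 0, 2, 3, 2, 1, 0, 2, 3], [0, 2, 0, 2, 3, 2, 0, 2, 3, 4, 5, 4, 3, 2, 0, 2, 3, 2, 0, 2, 0, 5]]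
  subs := [[0], [1], [2], [3]]

/-- Chains of the traced words. -/
noncomputable def closers : List ℕ := []

end CfsgLib.Recog.SporBound.SpSixFull
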